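import Mathlib
import Cfsg.Prelude.Def_Solvable
import Cfsg.Agent.Lib.Solv.Nilpotent

/-!
# Freeness over a fixed-point-free group of automorphisms
-/

set_option autoImplicit false
set_option linter.style.haveILetI false

namespace Cfsg.Lib.ModFree

universe u v w

variable {k : Type*} [Field k] {V : Type w} [AddCommGroup V] [Module k V] {H : Type v} [Group H] [Fintype H]

/-- A free basis block for the action. -/
def IsFreeOver (σ : Representation k H V) : Prop :=
  ∃ W : Submodule k V, (⨆ g, W.map (σ g)) = ⊤ ∧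
    ∀ c : H → V, (∀ g, c g ∈ W) → ∑ g, σ g (c g) = 0 → ∀ g, c g = 0

theorem IsFreeOver.isInternal [DecidableEq H] {σ : Representation k H V} (h : IsFreeOver σ) :
    ∃ W : Submodule k V, DirectSum.IsInternal (fun g : H => W.map (σ g)) := by
  classical
  obtain ⟨W, hW, hind⟩ := h
  refine ⟨W, ?_⟩
  rw [DirectSum.isInternal_submodule_iff_iSupIndep_and_iSup_eq_top]
  refine ⟨?_, hW⟩
  rw [iSupIndep_def]
  intro i
  rw [Submodule.disjoint_def]
  intro x hx hx'
  obtain ⟨w, hw, rfl⟩ := Submodule.mem_map.mp hx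
  rw [iSup_subtype', Submodule.mem_iSup_iff_exists_finsupp] at hx'
  obtain ⟨f, hf, hs⟩ := hx'
  choose d hd hde using fun j => Submodule.mem_map.mp (hf j)
  let c : H → V := fun g => if hg : g = i then -w else d ⟨g, hg⟩
  have h0 := hind c (fun g => by
    by_cases hg : g = i
    · simp only [c, dif_pos hg]; exact W.neg_mem hw
    · simp only [c, dif_neg hg]; exact hd _) (by
    rw [Fintype.sum_eq_add_sum_compl i]
    simp only [c, dif_pos, map_neg]
    rw [neg_add_eq_zero, ← hs, Finsupp.sum_fintype _ _ (fun _ => rfl),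
      Finset.sum_subtype (p := fun g => g ≠ i) ({i} : Finset H)ᶜ (fun g => by simp)]
    exact Finset.sum_congr rfl fun j _ => by rw [dif_neg j.2, hde]) i
  simp only [c, dif_pos, neg_eq_zero] at h0
  rw [h0, map_zero]

theorem isFreeOver_of_isCompl {σ : Representation k H V} {U U' : Submodule k V} (hc : IsCompl U U')
    (σU : Representation k H U) (σU' : Representation k H U')
    (h1 : ∀ g (u : U), (σU g u : V) = σ g u) (h2 : ∀ g (u : U'), (σU' g u : V) = σ g u)
    (hU : IsFreeOver σU) (hU' : IsFreeOver σU') : IsFreeOver σ := by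
  classical
  obtain ⟨W, hW, hWi⟩ := hU
  obtain ⟨W', hW', hWi'⟩ := hU'
  refine ⟨W.map U.subtype ⊔ W'.map U'.subtype, ?_, ?_⟩
  · rw [eq_top_iff, ← hc.sup_eq_top]
    refine sup_le ?_ ?_
    · intro u hu
      have : (⟨u, hu⟩ : U) ∈ ⨆ g, W.map (σU g) := hW ▸ Submodule.mem_top
      have h' := Submodule.mem_map_of_mem (f := U.subtype) this
      rw [Submodule.map_iSup] at h'
      refine (iSup_mono (fun g => ?_) : (⨆ g, (W.map (σU g)).map U.subtype) ≤ _) h'
      rintro _ ⟨_, ⟨y, hy, rfl⟩, rfl⟩
      exact ⟨U.subtype y, Submodule.mem_sup_left ⟨y, hy, rfl⟩, (h1 g y).symm⟩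
    · intro u hu
      have : (⟨u, hu⟩ : U') ∈ ⨆ g, W'.map (σU' g) := hW' ▸ Submodule.mem_top
      have h' := Submodule.mem_map_of_mem (f := U'.subtype) this
      rw [Submodule.map_iSup] at h'
      refine (iSup_mono (fun g => ?_) : (⨆ g, (W'.map (σU' g)).map U'.subtype) ≤ _) h'
      rintro _ ⟨_, ⟨y, hy, rfl⟩, rfl⟩
      exact ⟨U'.subtype y, Submodule.mem_sup_right ⟨y, hy, rfl⟩, (h2 g y).symm⟩
  · intro c hcm hsum
    choose a ha b hb hab using fun g => Submodule.mem_sup.mp (hcm g)
    choose a' ha' haa using fun g => Submodule.mem_map.mp (ha g)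
    choose b' hb' hbb using fun g => Submodule.mem_map.mp (hb g)
    have e : ((∑ g, σU g (a' g) : U) : V) + ((∑ g, σU' g (b' g) : U') : V) = 0 := by
      rw [Submodule.coe_sum, Submodule.coe_sum, ← Finset.sum_add_distrib, ← hsum]
      refine Finset.sum_congr rfl fun g _ => ?_
      rw [h1, h2, ← map_add, ← hab g, ← haa g, ← hbb g]
      rfl
    have e1 : ((∑ g, σU g (a' g) : U) : V) = 0 :=
      (Submodule.disjoint_def.mp hc.disjoint) _ (Subtype.mem _)
        (by rw [eq_neg_of_add_eq_zero_left e]; exact U'.neg_mem (Subtype.mem _))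
    have e2 : ((∑ g, σU' g (b' g) : U') : V) = 0 := by rwa [e1, zero_add] at e
    intro g
    rw [← hab g, ← haa g, ← hbb g, hWi a' ha' (Subtype.ext e1) g, hWi' b' hb' (Subtype.ext e2) g, map_zero, map_zero,
      add_zero]

/-- A normal element in the strong form. -/
theorem exists_normal {G K : Type*} [Group G] [Fintype G] [Field K] [MulSemiringAction G K] [FaithfulSMul G K] :
    ∃ θ : K, ∀ c : G → K, (∀ y : G, ∑ z, (y * z) • θ * c z = 0) → ∀ z, c z = 0 := by
  classical
  obtain ⟨θ, hθ⟩ := exists_linearIndependent_algEquiv_apply (FixedPoints.subfield G K) K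
  have hLI : LinearIndependent (FixedPoints.subfield G K) fun z : G => z • θ :=
    hθ.comp (MulSemiringAction.toAlgAut G (FixedPoints.subfield G K) K) (FixedPoints.toAlgAut_bijective G K).injective
  refine ⟨θ, fun c hc z => ?_⟩
  by_contra hz
  let tr : K → K := fun b => ∑ y : G, y • b
  have htr : ∀ b (g : G), g • tr b = tr b := fun b g => by
    simp only [tr, Finset.smul_sum, smul_smul]
    exact Equiv.sum_comp (Equiv.mulLeft g) (fun y => y • b)
  have h0 : ∀ b z', tr (b * c z') = 0 := by
    intro b
    have hsum : ∑ z', (z' • θ) * tr (b * c z') = 0 := by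
      simp only [tr, Finset.mul_sum]
      rw [Finset.sum_comm]
      refine Finset.sum_eq_zero fun y _ => ?_
      have h := congrArg (fun t => y • t) (hc y⁻¹)
      simp only [Finset.smul_sum, smul_zero, smul_mul', smul_smul, mul_inv_cancel_left] at h
      calc ∑ z', z' • θ * y • (b * c z') = (y • b) * ∑ z', z' • θ * y • c z' := by
            rw [Finset.mul_sum]; exact Finset.sum_congr rfl fun z' _ => by rw [smul_mul']; ring
        _ = 0 := by rw [h, mul_zero]
    intro z'
    have h2 := Fintype.linearIndependent_iff.mp hLI (fun z' => ⟨tr (b * c z'), htr _⟩) (by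
      rw [← hsum]; exact Finset.sum_congr rfl fun z' _ => mul_comm _ _) z'
    exact congrArg Subtype.val h2
  have hall : ∀ b, tr b = 0 := fun b => by
    have := h0 (b * (c z)⁻¹) z
    rwa [mul_assoc, inv_mul_cancel₀ hz, mul_one] at this
  have hLM := linearIndependent_monoidHom K K
  have hinj : Function.Injective fun y : G => (MulSemiringAction.toRingHom G K y).toMonoidHom := fun y y' h =>
    FaithfulSMul.eq_of_smul_eq_smul (α := K) fun b => DFunLike.congr_fun h b
  have h1 := Fintype.linearIndependent_iff.mp (hLM.comp _ hinj) (fun _ => 1) (funext fun b => by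
    simpa [tr] using hall b) 1
  exact one_ne_zero h1

section Abelian

variable [FiniteDimensional k V] {Z : Type u} [CommGroup Z] [Finite Z]

set_option maxHeartbeats 1000000 in
theorem free_of_abelian (φ : H →* MulAut Z) (hfpf : ∀ h : H, h ≠ 1 → ∀ z, φ h z = z → z = 1)
    (hq : (Nat.card Z : k) ≠ 0) (ρ : Representation k Z V) (σ : Representation k H V)
    (hcomp : ∀ (h : H) (z : Z) (v : V), σ h (ρ z v) = ρ (φ h z) (σ h v))
    (hC : ∀ v, (∀ z, ρ z v = v) → v = 0) : IsFreeOver σ := by
  classical
  haveI : NeZero (Nat.card Z : k) := ⟨hq⟩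
  let S := MonoidAlgebra k Z
  let Φ : S →ₐ[k] Module.End k V := ρ.asAlgebraHom
  let I : Ideal S := RingHom.ker Φ.toRingHom
  let R := S ⧸ I
  haveI : IsSemisimpleRing R := (Ideal.Quotient.mk I).isSemisimpleRing_of_surjective Ideal.Quotient.mk_surjective
  haveI : IsArtinianRing R := inferInstance
  haveI : IsReduced R := inferInstance
  haveI : FiniteDimensional k R := Module.Finite.of_surjective (Ideal.Quotient.mkₐ k I).toLinearMap Ideal.Quotient.mk_surjective
  let ev : R →ₐ[k] Module.End k V := Ideal.Quotient.liftₐ I Φ (fun a ha => ha)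
  have hev : ∀ a : S, ev (Ideal.Quotient.mk I a) = Φ a := fun a => rfl
  have hevinj : Function.Injective ev := by
    rw [injective_iff_map_eq_zero]
    intro r hr
    obtain ⟨a, rfl⟩ := Ideal.Quotient.mk_surjective r
    exact Ideal.Quotient.eq_zero_iff_mem.mpr hr
  let zR : Z → R := fun z => Ideal.Quotient.mk I (MonoidAlgebra.of k Z z)
  have hzR : ∀ z, ev (zR z) = ρ z := fun z => by rw [hev]; exact Representation.asAlgebraHom_of ρ z
  -- the automorphisms
  let a₀ : H → (S ≃ₐ[k] S) := fun h => MonoidAlgebra.domCongr k k (φ h)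
  have hconj : ∀ h (a : S) v, σ h (Φ a v) = Φ (a₀ h a) (σ h v) := by
    intro h a v
    induction a using MonoidAlgebra.induction_on generalizing v with
    | of z =>
      show σ h (Φ (MonoidAlgebra.single z 1) v) = Φ (a₀ h (MonoidAlgebra.single z 1)) (σ h v)
      rw [show a₀ h (MonoidAlgebra.single z 1) = MonoidAlgebra.single (φ h z) 1 from MonoidAlgebra.domCongr_single ..]
      show σ h (ρ.asAlgebraHom (MonoidAlgebra.single z 1) v) = ρ.asAlgebraHom (MonoidAlgebra.single (φ h z) 1) (σ h v)
      rw [Representation.asAlgebraHom_single, Representation.asAlgebraHom_single, one_smul, one_smul]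
      exact hcomp h z v
    | add a b ha hb => simp only [map_add, LinearMap.add_apply, ha, hb]
    | smul r a ha => simp only [map_smul, LinearMap.smul_apply, ha]
  have hbij : ∀ h, Function.Surjective (σ h) := fun h v => ⟨σ h⁻¹ v, by
    rw [← Module.End.mul_apply, ← map_mul, mul_inv_cancel, map_one]; rfl⟩
  have hI : ∀ h, I = I.map (a₀ h : S ≃ₐ[k] S) := by
    intro h
    refine le_antisymm (fun a ha => ?_) (Ideal.map_le_iff_le_comap.mpr fun a ha => ?_)
    · rw [← (a₀ h).apply_symm_apply a]
      refine Ideal.mem_map_of_mem _ ?_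
      refine RingHom.mem_ker.mpr (LinearMap.ext fun v => ?_)
      have hinj : Function.Injective (σ h) := fun x y e => by
        simpa [← Module.End.mul_apply, ← map_mul] using congrArg (σ h⁻¹) e
      apply hinj
      show σ h (Φ ((a₀ h).symm a) v) = _
      rw [hconj, (a₀ h).apply_symm_apply, show Φ a = 0 from ha]
      simp
    · refine RingHom.mem_ker.mpr (LinearMap.ext fun v => ?_)
      obtain ⟨w, rfl⟩ := hbij h v
      show Φ (a₀ h a) (σ h w) = 0
      rw [← hconj, show Φ a = 0 from ha]
      simp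
  let α : H → (R ≃ₐ[k] R) := fun h => Ideal.quotientEquivAlg I I (a₀ h) (hI h)
  have hα : ∀ h (r : R) v, σ h (ev r v) = ev (α h r) (σ h v) := by
    intro h r v
    obtain ⟨a, rfl⟩ := Ideal.Quotient.mk_surjective r
    rw [show α h (Ideal.Quotient.mk I a) = Ideal.Quotient.mk I (a₀ h a) from rfl, hev, hev]
    exact hconj h a v
  have αmul : ∀ g h r, α (g * h) r = α g (α h r) := by
    intro g h r
    refine hevinj (LinearMap.ext fun v => ?_)
    obtain ⟨w, rfl⟩ := hbij (g * h) v
    rw [← hα, map_mul, Module.End.mul_apply, Module.End.mul_apply, hα, hα]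
  have αone : ∀ r, α 1 r = r := by
    intro r
    refine hevinj (LinearMap.ext fun v => ?_)
    have := hα 1 r v
    rw [map_one] at this
    exact this.symm
  have hαz : ∀ h z, α h (zR z) = zR (φ h z) := fun h z => by
    show Ideal.Quotient.mk I (a₀ h (MonoidAlgebra.single z 1)) = Ideal.Quotient.mk I (MonoidAlgebra.single (φ h z) 1)
    rw [show a₀ h (MonoidAlgebra.single z 1) = MonoidAlgebra.single (φ h z) 1 from MonoidAlgebra.domCongr_single ..]
  -- action on maximal ideals
  let rel : MaximalSpectrum R → MaximalSpectrum R → Prop := fun m m' => ∃ h, ∀ r, r ∈ m'.asIdeal ↔ α h r ∈ m.asIdeal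
  let st : Setoid (MaximalSpectrum R) :=
    ⟨rel, ⟨fun m => ⟨1, fun r => by rw [αone]⟩,
      fun {m m'} ⟨h, hh⟩ => ⟨h⁻¹, fun r => by rw [hh, ← αmul, mul_inv_cancel, αone]⟩,
      fun {m m' m''} ⟨h, hh⟩ ⟨g, hg⟩ => ⟨h * g, fun r => by rw [hg, hh, αmul]⟩⟩⟩
  let rep : MaximalSpectrum R → MaximalSpectrum R := fun m => (Quotient.mk st m).out
  have hrep : ∀ m, ∃ h, ∀ r, r ∈ m.asIdeal ↔ α h r ∈ (rep m).asIdeal := fun m => Quotient.mk_out (s := st) m
  have hrepc : ∀ m m', rel m m' → rep m = rep m' := fun m m' h => congrArg Quotient.out (Quotient.sound (s := st) h)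
  -- the element at a representative
  have hloc : ∀ m : MaximalSpectrum R, ∃ t : R ⧸ m.asIdeal, ∀ c : H → R, (∀ g, (∃ r, ¬ (α g r ∈ m.asIdeal ↔ r ∈ m.asIdeal)) → c g ∈ m.asIdeal) →
      ∀ θ : R, Ideal.Quotient.mk m.asIdeal θ = t →
      (∀ y, (∀ r, α y r ∈ m.asIdeal ↔ r ∈ m.asIdeal) → ∑ g, α (y * g) θ * c g ∈ m.asIdeal) → ∀ g, c g ∈ m.asIdeal := by
    intro m
    haveI := m.isMaximal
    letI := Ideal.Quotient.field m.asIdeal
    let G : Subgroup H :=
      { carrier := {x | ∀ r, α x r ∈ m.asIdeal ↔ r ∈ m.asIdeal}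
        mul_mem' := fun {a b} ha hb r => by rw [αmul, ha, hb]
        one_mem' := fun r => by rw [αone]
        inv_mem' := fun {a} ha r => by rw [← ha (α a⁻¹ r), ← αmul, mul_inv_cancel, αone] }
    have hG : ∀ x : G, m.asIdeal = m.asIdeal.map ((α x.1).toRingEquiv : R →+* R) := by
      intro x
      refine le_antisymm (fun r hr => ?_) (Ideal.map_le_iff_le_comap.mpr fun r hr => (x.2 r).mpr hr)
      rw [← (α x.1).apply_symm_apply r]
      exact Ideal.mem_map_of_mem _ ((x.2 _).mp (by rw [AlgEquiv.apply_symm_apply]; exact hr))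
    let β : G →* RingAut (R ⧸ m.asIdeal) :=
      { toFun := fun x => Ideal.quotientEquiv m.asIdeal m.asIdeal (α x.1).toRingEquiv (hG x)
        map_one' := RingEquiv.ext fun t => by
          obtain ⟨r, rfl⟩ := Ideal.Quotient.mk_surjective t
          show Ideal.Quotient.mk m.asIdeal (α (1 : H) r) = _
          rw [αone]; rfl
        map_mul' := fun x y => RingEquiv.ext fun t => by
          obtain ⟨r, rfl⟩ := Ideal.Quotient.mk_surjective t
          show Ideal.Quotient.mk m.asIdeal (α (x.1 * y.1) r) = _
          rw [αmul]; rfl }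
    letI : MulSemiringAction G (R ⧸ m.asIdeal) := MulSemiringAction.compHom (R ⧸ m.asIdeal) β
    have hsm : ∀ (x : G) r, x • Ideal.Quotient.mk m.asIdeal r = Ideal.Quotient.mk m.asIdeal (α x.1 r) := fun x r => rfl
    haveI : FaithfulSMul G (R ⧸ m.asIdeal) := by
      refine ⟨fun {x y} hxy => ?_⟩
      by_contra hne
      have h1 : ((y⁻¹ * x : G) : H) ≠ 1 := fun h => hne (inv_mul_eq_one.mp (Subtype.ext h)).symm
      have hfix : ∀ r, α ((y⁻¹ * x : G) : H) r - r ∈ m.asIdeal := fun r => by
        rw [← Ideal.Quotient.eq, ← hsm, mul_smul, hxy, inv_smul_smul]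
      -- Z is trivial modulo m
      have hZ : ∀ z, zR z - 1 ∈ m.asIdeal := by
        intro z
        have hsurj : Function.Surjective fun w : Z => φ ((y⁻¹ * x : G) : H) w * w⁻¹ := by
          refine Finite.injective_iff_surjective.mp fun a b hab => ?_
          have : φ ((y⁻¹ * x : G) : H) (a * b⁻¹) = a * b⁻¹ := by
            have h2 : φ ((y⁻¹ * x : G) : H) a = φ ((y⁻¹ * x : G) : H) b * b⁻¹ * a := by
              have hab' : φ ((y⁻¹ * x : G) : H) a * a⁻¹ = φ ((y⁻¹ * x : G) : H) b * b⁻¹ := hab
              rw [← hab']; group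
            rw [map_mul, map_inv, h2, mul_comm (φ ((y⁻¹ * x : G) : H) b * b⁻¹) a, mul_assoc, mul_comm (φ ((y⁻¹ * x : G) : H) b) b⁻¹,
              mul_assoc, mul_inv_cancel, mul_one]
          exact mul_inv_eq_one.mp (hfpf _ h1 _ this)
        obtain ⟨w, rfl⟩ := hsurj z
        have hmul : zR (φ ((y⁻¹ * x : G) : H) w * w⁻¹) * zR w = α ((y⁻¹ * x : G) : H) (zR w) := by
          rw [hαz]; simp only [zR, ← map_mul, inv_mul_cancel_right]
        have h3 : zR w * zR w⁻¹ = 1 := by simp only [zR, ← map_mul, mul_inv_cancel, map_one]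
        have h4 := m.asIdeal.mul_mem_right (zR w⁻¹) (hfix (zR w))
        rwa [sub_mul, h3, ← hmul, mul_assoc, h3, mul_one] at h4
      obtain ⟨e, he⟩ := (IsArtinianRing.equivPi R).surjective (Function.update 0 m 1)
      have hkill : ∀ z, (zR z - 1) * e = 0 := fun z => by
        refine (IsArtinianRing.equivPi R).injective (funext fun m' => ?_)
        rw [map_mul, Pi.mul_apply, he, map_zero, Pi.zero_apply]
        rcases eq_or_ne m' m with rfl | hm'
        · rw [IsArtinianRing.equivPi_apply, Ideal.Quotient.eq_zero_iff_mem.mpr (hZ z), zero_mul]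
        · rw [Function.update_of_ne hm', Pi.zero_apply, mul_zero]
      have he0 : e = 0 := hevinj (LinearMap.ext fun v => by
        rw [map_zero, LinearMap.zero_apply]
        refine hC _ fun z => ?_
        have := DFunLike.congr_fun (congrArg ev (hkill z)) v
        rw [sub_mul, one_mul, map_sub, map_mul, hzR, map_zero, LinearMap.sub_apply, LinearMap.zero_apply, sub_eq_zero] at this
        exact this)
      have := congrFun he m
      rw [he0, map_zero, Pi.zero_apply, Function.update_self] at this
      exact zero_ne_one this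
    obtain ⟨t, ht⟩ := exists_normal (G := G) (K := R ⧸ m.asIdeal)
    refine ⟨t, fun c hout θ hθ hsum g => ?_⟩
    by_cases hg : ∀ r, α g r ∈ m.asIdeal ↔ r ∈ m.asIdeal
    · refine Ideal.Quotient.eq_zero_iff_mem.mp (ht (fun z => Ideal.Quotient.mk m.asIdeal (c z.1)) (fun y => ?_) ⟨g, hg⟩)
      rw [← Ideal.Quotient.eq_zero_iff_mem.mpr (hsum y.1 y.2), map_sum]
      rw [← Finset.sum_subset (Finset.subset_univ (Finset.univ.filter fun g => g ∈ G)) (fun x _ hx => by
        rw [map_mul, Ideal.Quotient.eq_zero_iff_mem.mpr (hout x ?_), mul_zero]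
        simp only [Finset.mem_filter, Finset.mem_univ, true_and] at hx
        by_contra hh
        push Not at hh
        exact hx hh), Finset.sum_subtype (p := fun g => g ∈ G) (Finset.univ.filter fun g => g ∈ G) (fun g => by simp)]
      refine Finset.sum_congr rfl fun z _ => ?_
      rw [← hθ, hsm, map_mul]
      rfl
    · exact hout g (by push Not at hg; obtain ⟨r, hr⟩ := hg; exact ⟨r, by tauto⟩)
  choose t ht using hloc
  let θ : R := (IsArtinianRing.equivPi R).symm fun m => if rep m = m then t m else 0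
  have hθ : ∀ m, Ideal.Quotient.mk m.asIdeal θ = if rep m = m then t m else 0 := fun m => by
    rw [← IsArtinianRing.equivPi_apply R θ m]
    exact congrFun ((IsArtinianRing.equivPi R).apply_symm_apply _) m
  let A : Matrix H H R := Matrix.of fun x g => α (x * g) θ
  have hP : ∀ (m : MaximalSpectrum R) (c : H → R), (∀ x, ∑ g, α (x * g) θ * c g ∈ m.asIdeal) → ∀ g, c g ∈ m.asIdeal := by
    have hreps : ∀ m, rep m = m → ∀ c : H → R, (∀ x, ∑ g, α (x * g) θ * c g ∈ m.asIdeal) → ∀ g, c g ∈ m.asIdeal := by
      intro m hm c hc g₀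
      -- shift so that `g₀` becomes `1`
      have hvan : ∀ u : H, (∃ r, ¬ (α u r ∈ m.asIdeal ↔ r ∈ m.asIdeal)) → α u θ ∈ m.asIdeal := by
        intro u hu
        haveI := m.isMaximal
        let m' : MaximalSpectrum R := ⟨m.asIdeal.comap ((α u).toRingEquiv : R →+* R),
          Ideal.comap_isMaximal_of_surjective _ (α u).surjective⟩
        have hne : rep m' ≠ m' := by
          rw [← hrepc m m' ⟨u, fun r => Iff.rfl⟩, hm]
          intro he
          obtain ⟨r, hr⟩ := hu
          exact hr (by conv_rhs => rw [he]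
                       exact Iff.rfl)
        have h1 := hθ m'
        rw [if_neg hne] at h1
        have h2 : θ ∈ m'.asIdeal := Ideal.Quotient.eq_zero_iff_mem.mp h1
        exact h2
      have := ht m (fun z => if (∀ r, α z r ∈ m.asIdeal ↔ r ∈ m.asIdeal) then c (g₀ * z) else 0)
        (fun g ⟨r, hr⟩ => by rw [if_neg (fun h => hr (h r))]; exact zero_mem _) θ (by rw [hθ, if_pos hm]) (fun y hy => by
          have h1 := hc (y * g₀⁻¹)
          rw [← Equiv.sum_comp (Equiv.mulLeft g₀) (fun g => α (y * g₀⁻¹ * g) θ * c g)] at h1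
          simp only [Equiv.coe_mulLeft, inv_mul_cancel_right, mul_assoc, inv_mul_cancel_left] at h1
          have h2 : ∀ z, α (y * z) θ * c (g₀ * z) -
              α (y * z) θ * (if (∀ r, α z r ∈ m.asIdeal ↔ r ∈ m.asIdeal) then c (g₀ * z) else 0) ∈ m.asIdeal := fun z => by
            split_ifs with hz
            · rw [sub_self]; exact zero_mem _
            · rw [mul_zero, sub_zero]
              refine m.asIdeal.mul_mem_right _ (hvan _ ?_)
              push Not at hz
              obtain ⟨r, hr⟩ := hz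
              refine ⟨r, fun h => ?_⟩
              rw [αmul, hy] at h
              tauto
          have h3 := m.asIdeal.sub_mem h1 (Ideal.sum_mem _ (t := Finset.univ) fun z _ => h2 z)
          rw [Finset.sum_sub_distrib, sub_sub_cancel] at h3
          exact h3) 1
      rw [if_pos (fun r => by rw [αone]), mul_one] at this
      exact this
    intro m c hc g
    obtain ⟨h, hh⟩ := hrep m
    have hrr : rep (rep m) = rep m := (hrepc (rep m) m (hrep m))
    refine (hh _).mpr (hreps (rep m) hrr (fun g => α h (c g)) (fun x => ?_) g)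
    have h1 := (hh _).mp (hc (h⁻¹ * x))
    rw [map_sum] at h1
    simpa only [map_mul, ← αmul, ← mul_assoc, mul_inv_cancel, one_mul] using h1
  have hAinj : Function.Injective A.mulVec := by
    intro c d hcd
    rw [← sub_eq_zero]
    funext g
    refine (IsArtinianRing.equivPi R).injective (funext fun m => ?_)
    rw [IsArtinianRing.equivPi_apply, Pi.zero_apply, map_zero, Pi.zero_apply]
    refine Ideal.Quotient.eq_zero_iff_mem.mpr (hP m (c - d) (fun x => ?_) g)
    have : A.mulVec (c - d) x = 0 := by rw [Matrix.mulVec_sub, hcd, sub_self]; rfl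
    have : ∑ g, α (x * g) θ * (c - d) g = 0 := this
    rw [this]; exact zero_mem _
  have hAsurj : Function.Surjective A.mulVec :=
    LinearMap.surjective_of_injective (f := ((Matrix.mulVecLin A).restrictScalars k)) hAinj
  obtain ⟨C, hC'⟩ := Matrix.mulVec_surjective_iff_exists_right_inverse.mp hAsurj
  have hCA : C * A = 1 := mul_eq_one_comm.mp hC'
  have hCy : ∀ g y, C g y = α y (C g 1) := by
    intro g y
    have hv : A.mulVec (fun g => C g y) = A.mulVec (fun g => α y (C g 1)) := by
      funext x
      have h1 : A.mulVec (fun g => C g y) x = (A * C) x y := rfl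
      have h2 : A.mulVec (fun g => α y (C g 1)) x = α y ((A * C) (y⁻¹ * x) 1) := by
        rw [Matrix.mul_apply, map_sum]
        refine Finset.sum_congr rfl fun g _ => ?_
        show α (x * g) θ * α y (C g 1) = α y (α (y⁻¹ * x * g) θ * C g 1)
        rw [map_mul, ← αmul, ← mul_assoc, mul_inv_cancel_left]
      rw [h1, h2, hC', Matrix.one_apply, Matrix.one_apply]
      by_cases hxy : x = y
      · rw [if_pos hxy, if_pos (by rw [hxy, inv_mul_cancel]), map_one]
      · rw [if_neg hxy, if_neg (fun h => hxy (inv_mul_eq_one.mp h).symm), map_zero]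
    exact congrFun (hAinj hv) g
  -- the free block
  let Fix : Submodule k V :=
    { carrier := {v | ∀ h, σ h v = v}
      add_mem' := fun {a b} ha hb h => by rw [map_add, ha, hb]
      zero_mem' := fun h => map_zero _
      smul_mem' := fun c a ha h => by rw [map_smul, ha] }
  refine ⟨Fix.map (ev θ), ?_, ?_⟩
  · rw [eq_top_iff]
    intro v _
    have hw : ∀ g, (∑ y, ev (C g y) (σ y v)) ∈ Fix := fun g h => by
      rw [map_sum]
      rw [← Equiv.sum_comp (Equiv.mulLeft h) (fun y => ev (C g y) (σ y v))]
      refine Finset.sum_congr rfl fun y _ => ?_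
      show σ h (ev (C g y) (σ y v)) = ev (C g (h * y)) (σ (h * y) v)
      rw [hα, hCy g y, hCy g (h * y), αmul, map_mul, Module.End.mul_apply]
    have hv : v = ∑ g, σ g (ev θ (∑ y, ev (C g y) (σ y v))) := by
      calc v = ∑ y, ev ((A * C) 1 y) (σ y v) := by
            rw [Finset.sum_eq_single 1, hC', Matrix.one_apply_eq, map_one, map_one]
            · rfl
            · intro y _ hy; rw [hC', Matrix.one_apply_ne (Ne.symm hy), map_zero]; rfl
            · simp
        _ = ∑ g, ev (A 1 g) (∑ y, ev (C g y) (σ y v)) := by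
            simp only [Matrix.mul_apply, map_sum, LinearMap.sum_apply, map_mul, Module.End.mul_apply]
            exact Finset.sum_comm
        _ = _ := Finset.sum_congr rfl fun g _ => by rw [hα, hw g g]; simp [A]
    rw [hv]
    exact Submodule.sum_mem _ fun g _ => le_iSup (fun g => (Fix.map (ev θ)).map (σ g)) g
      (Submodule.mem_map_of_mem (Submodule.mem_map_of_mem (hw g)))
  · intro c hc hsum
    choose w hw hwc using fun g => Submodule.mem_map.mp (hc g)
    have hx : ∀ x, ∑ g, ev (A x g) (w g) = 0 := by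
      intro x
      have h1 := congrArg (σ x) hsum
      rw [map_sum, map_zero] at h1
      rw [← h1]
      refine Finset.sum_congr rfl fun g _ => ?_
      rw [← hwc g, ← Module.End.mul_apply (σ x), ← map_mul, hα, hw g (x * g)]
      rfl
    have hw0 : ∀ g, w g = 0 := by
      intro g
      calc w g = ∑ g', ev ((C * A) g g') (w g') := by
            rw [Finset.sum_eq_single g, hCA, Matrix.one_apply_eq, map_one]
            · rfl
            · intro y _ hy; rw [hCA, Matrix.one_apply_ne (Ne.symm hy), map_zero]; rfl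
            · simp
        _ = ∑ x, ev (C g x) (∑ g', ev (A x g') (w g')) := by
            simp only [Matrix.mul_apply, map_sum, LinearMap.sum_apply, map_mul, Module.End.mul_apply]
            exact Finset.sum_comm
        _ = 0 := Finset.sum_eq_zero fun x _ => by rw [hx, map_zero]
    intro g
    rw [← hwc g, hw0 g, map_zero]

end Abelian

section Nilpotent

/-- A finite `p`-group fixes a nonzero vector in characteristic `p`. -/
theorem exists_fixed_vec (p : ℕ) [Fact p.Prime] [CharP k p] {F : Type u} [Group F] [Finite F] (hF : IsPGroup p F)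
    (ρ : Representation k F V) {v : V} (hv : v ≠ 0) : ∃ w, w ≠ 0 ∧ ∀ f, ρ f w = w := by
  classical
  haveI : Fintype F := Fintype.ofFinite F
  letI : Module (ZMod p) V := Module.compHom V (ZMod.castHom (dvd_refl p) k)
  let M : Submodule (ZMod p) V := Submodule.span (ZMod p) (Set.range fun f => ρ f v)
  haveI : Module.Finite (ZMod p) M := Module.Finite.span_of_finite (ZMod p) (Set.finite_range _)
  haveI : Finite M := Module.finite_of_finite (ZMod p)
  have hM : ∀ f, ∀ x ∈ M, ρ f x ∈ M := by
    intro f x hx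
    induction hx using Submodule.span_induction with
    | mem x hx =>
      obtain ⟨g, rfl⟩ := hx
      exact Submodule.subset_span ⟨f * g, by show ρ (f * g) v = ρ f (ρ g v); rw [map_mul]; rfl⟩
    | zero => rw [map_zero]; exact M.zero_mem
    | add a b _ _ ha hb => rw [map_add]; exact M.add_mem ha hb
    | smul c a _ ha =>
      have : c • a = (ZMod.castHom (dvd_refl p) k c) • a := rfl
      rw [this, map_smul]
      exact M.smul_mem c ha
  letI : MulAction F M :=
    { smul := fun f x => ⟨ρ f x, hM f x x.2⟩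
      one_smul := fun x => Subtype.ext (by show ρ 1 (x : V) = _; rw [map_one]; rfl)
      mul_smul := fun f g x => Subtype.ext (by show ρ (f * g) (x : V) = _; rw [map_mul]; rfl) }
  have hv' : v ∈ M := Submodule.subset_span ⟨1, by simp⟩
  have hdvd : p ∣ Nat.card M := by
    haveI : Nontrivial M := ⟨⟨⟨v, hv'⟩, 0, fun h => hv (congrArg Subtype.val h)⟩⟩
    rw [Module.natCard_eq_pow_finrank (K := ZMod p), Nat.card_zmod]
    exact dvd_pow_self p (Module.finrank_pos).ne'
  obtain ⟨w, hw, hne⟩ := hF.exists_fixed_point_of_prime_dvd_card_of_fixed_point M hdvd (a := 0)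
    (fun f => Subtype.ext (map_zero (ρ f)))
  exact ⟨w, fun h => hne (Subtype.ext h.symm), fun f => congrArg Subtype.val (hw f)⟩

set_option maxHeartbeats 1000000 in
theorem free_of_nilpotent [FiniteDimensional k V] : ∀ (F : Type u) [Group F] [Finite F] [Group.IsNilpotent F]
    (φ : H →* MulAut F) (_ : ∀ h : H, h ≠ 1 → ∀ f, φ h f = f → f = 1) (ρ : Representation k F V)
    (σ : Representation k H V) (_ : ∀ (h : H) (f : F) (v : V), σ h (ρ f v) = ρ (φ h f) (σ h v))
    (_ : ∀ v, (∀ f, ρ f v = v) → v = 0), IsFreeOver σ := by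
  suffices key : ∀ (N : ℕ) (V : Type w) [AddCommGroup V] [Module k V] [FiniteDimensional k V] (F : Type u) [Group F]
      [Finite F] [Group.IsNilpotent F] (φ : H →* MulAut F) (ρ : Representation k F V) (σ : Representation k H V),
      Nat.card F = N → (∀ h : H, h ≠ 1 → ∀ f, φ h f = f → f = 1) →
      (∀ (h : H) (f : F) (v : V), σ h (ρ f v) = ρ (φ h f) (σ h v)) → (∀ v, (∀ f, ρ f v = v) → v = 0) → IsFreeOver σ by
    intro F _ _ _ φ h1 ρ σ h2 h3
    exact key _ V F φ ρ σ rfl h1 h2 h3
  intro N
  induction N using Nat.strong_induction_on with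
  | _ N IH =>
  intro V _ _ _ F _ _ _ φ ρ σ hN hfpf hcomp hC
  classical
  by_cases hV : ∀ v : V, v = 0
  · refine ⟨⊤, ?_, fun c _ _ g => hV (c g)⟩
    rw [eq_top_iff]
    intro v _
    rw [hV v]
    exact Submodule.zero_mem _
  push Not at hV
  obtain ⟨v₀, hv₀⟩ := hV
  -- a prime dividing the centre and invertible
  obtain ⟨q, hqp, hqk, hqZ⟩ : ∃ q : ℕ, q.Prime ∧ (q : k) ≠ 0 ∧ q ∣ Nat.card (Subgroup.center F) := by
    by_contra hno
    push Not at hno
    have hall : ∀ q : ℕ, q.Prime → q ∣ Nat.card F → (q : k) = 0 := by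
      intro q hq hd
      haveI : Fact q.Prime := ⟨hq⟩
      obtain ⟨Q⟩ : Nonempty (Sylow q F) := inferInstance
      haveI : (Q : Subgroup F).Normal := Q.normal_of_normalizerCondition Group.normalizerCondition_of_isNilpotent
      have hQ : (Q : Subgroup F) ≠ ⊥ := Q.ne_bot_of_dvd_card hd
      have hQZ := Cfsg.Lib.Solv.inf_center_ne_bot_of_isNilpotent hQ
      by_contra hqk
      refine hno q hq hqk ?_
      obtain ⟨n, hn⟩ := IsPGroup.iff_card.mp (Q.2.to_le (inf_le_left : (Q : Subgroup F) ⊓ Subgroup.center F ≤ Q))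
      refine dvd_trans ?_ (Subgroup.card_dvd_of_le (inf_le_right : (Q : Subgroup F) ⊓ Subgroup.center F ≤ Subgroup.center F))
      rw [hn]
      refine dvd_pow_self q fun h0 => hQZ ?_
      rw [h0, pow_zero] at hn
      exact Subgroup.card_eq_one.mp hn
    rcases eq_or_ne (Nat.card F) 1 with h1 | h1
    · haveI := (Nat.card_eq_one_iff_unique.mp h1).1
      exact hv₀ (hC v₀ fun f => by rw [Subsingleton.elim f 1, map_one]; rfl)
    obtain ⟨p, hp, hpd⟩ := Nat.exists_prime_and_dvd h1
    haveI : Fact p.Prime := ⟨hp⟩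
    haveI : CharP k p := (CharP.charP_iff_prime_eq_zero hp).mpr (hall p hp hpd)
    have hF : IsPGroup p F := IsPGroup.of_card (Nat.eq_prime_pow_of_unique_prime_dvd (Nat.card_pos.ne') (fun {d} hd hdd => by
      exact (Nat.prime_dvd_prime_iff_eq hp hd).mp ((CharP.cast_eq_zero_iff k p d).mp (hall d hd hdd)) |>.symm))
    obtain ⟨w, hw0, hw⟩ := exists_fixed_vec p hF ρ hv₀
    exact hw0 (hC w hw)
  haveI : Fact q.Prime := ⟨hqp⟩
  let Z : Subgroup F :=
    { carrier := {z | z ∈ Subgroup.center F ∧ z ^ q = 1}
      mul_mem' := fun {a b} ha hb => ⟨Subgroup.mul_mem _ ha.1 hb.1, by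
        rw [Commute.mul_pow (Subgroup.mem_center_iff.mp hb.1 a), ha.2, hb.2, one_mul]⟩
      one_mem' := ⟨Subgroup.one_mem _, one_pow q⟩
      inv_mem' := fun {a} ha => ⟨Subgroup.inv_mem _ ha.1, by rw [inv_pow, ha.2, inv_one]⟩ }
  haveI : Z.Normal := ⟨fun z hz g => by
    rw [Subgroup.mem_center_iff.mp hz.1 g, mul_inv_cancel_right]; exact hz⟩
  have hZφ : ∀ h, ∀ z ∈ Z, φ h z ∈ Z := fun h z hz => ⟨Subgroup.mem_center_iff.mpr fun g => by
    obtain ⟨g, rfl⟩ := (φ h).surjective g
    rw [← map_mul, ← map_mul, Subgroup.mem_center_iff.mp hz.1 g], by rw [← map_pow, hz.2, map_one]⟩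
  letI : CommGroup Z := { (inferInstance : Group Z) with mul_comm := fun a b => Subtype.ext (Subgroup.mem_center_iff.mp b.2.1 a) }
  have hφi : ∀ h f, φ h (φ h⁻¹ f) = f := fun h f => by
    rw [← MulAut.mul_apply, ← map_mul, mul_inv_cancel, map_one]; rfl
  have hφi' : ∀ h f, φ h⁻¹ (φ h f) = f := fun h f => by
    rw [← MulAut.mul_apply, ← map_mul, inv_mul_cancel, map_one]; rfl
  let φZ : H →* MulAut Z :=
    { toFun := fun h =>
        { toFun := fun z => ⟨φ h z, hZφ h z z.2⟩
          invFun := fun z => ⟨φ h⁻¹ z, hZφ h⁻¹ z z.2⟩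
          left_inv := fun z => Subtype.ext (hφi' h z)
          right_inv := fun z => Subtype.ext (hφi h z)
          map_mul' := fun a b => Subtype.ext (map_mul (φ h) _ _) }
      map_one' := MulEquiv.ext fun z => Subtype.ext (by simp)
      map_mul' := fun a b => MulEquiv.ext fun z => Subtype.ext (by simp) }
  have hZpG : IsPGroup q Z := fun z => ⟨1, Subtype.ext (by rw [pow_one]; exact z.2.2)⟩
  have hZk : (Nat.card Z : k) ≠ 0 := by
    obtain ⟨n, hn⟩ := IsPGroup.iff_card.mp hZpG
    rw [hn, Nat.cast_pow]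
    exact pow_ne_zero _ hqk
  obtain ⟨z₀, hz₀⟩ := exists_prime_orderOf_dvd_card' (G := Subgroup.center F) q hqZ
  have hZne : Z ≠ ⊥ := fun hb => by
    have hm : (z₀ : F) ∈ Z := ⟨z₀.2, by rw [← Subgroup.coe_pow, ← hz₀, pow_orderOf_eq_one]; rfl⟩
    rw [hb, Subgroup.mem_bot] at hm
    rw [show z₀ = 1 from Subtype.ext hm, orderOf_one] at hz₀
    exact hqp.ne_one hz₀.symm
  -- split off the fixed points of `Z`
  let U : Submodule k V :=
    { carrier := {v | ∀ z : Z, ρ (z : F) v = v}
      add_mem' := fun {a b} ha hb z => by rw [map_add, ha, hb]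
      zero_mem' := fun z => map_zero _
      smul_mem' := fun c a ha z => by rw [map_smul, ha] }
  haveI : Fintype Z := Fintype.ofFinite Z
  let P : V →ₗ[k] V := ∑ z : Z, ρ (z : F)
  have hPapp : ∀ v, P v = ∑ z : Z, ρ (z : F) v := fun v => LinearMap.sum_apply _ _ _
  let U' : Submodule k V := LinearMap.ker P
  have hPU : ∀ v, P v ∈ U := fun v y => by
    rw [hPapp, map_sum]
    refine Fintype.sum_equiv (Equiv.mulLeft y) _ _ fun z => ?_
    rw [Equiv.coe_mulLeft, Subgroup.coe_mul, map_mul]
    rfl
  have hcard : (Fintype.card Z : k) ≠ 0 := by rwa [← Nat.card_eq_fintype_card]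
  have hPfix : ∀ v ∈ U, P v = (Fintype.card Z : k) • v := fun v hv => by
    rw [hPapp, Finset.sum_congr rfl (fun z _ => hv z), Finset.sum_const, Finset.card_univ, Nat.cast_smul_eq_nsmul]
  have hc : IsCompl U U' := by
    refine isCompl_iff.mpr ⟨Submodule.disjoint_def.mpr fun v hv hv' => ?_, codisjoint_iff.mpr (eq_top_iff.mpr fun v _ => ?_)⟩
    · have := hPfix v hv
      rw [show P v = 0 from hv'] at this
      exact (smul_eq_zero.mp this.symm).resolve_left hcard
    · refine Submodule.mem_sup.mpr ⟨(Fintype.card Z : k)⁻¹ • P v, U.smul_mem _ (hPU v),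
        v - (Fintype.card Z : k)⁻¹ • P v, ?_, by abel⟩
      show P _ = 0
      rw [map_sub, map_smul, hPfix _ (hPU v), inv_smul_smul₀ hcard, sub_self]
  have hσU : ∀ h, ∀ u ∈ U, σ h u ∈ U := fun h u hu z => by
    have h1 := congrArg (σ h) (hu ⟨φ h⁻¹ z, hZφ _ z z.2⟩)
    rw [hcomp] at h1
    simpa only [hφi] using h1
  have hσU' : ∀ h, ∀ u ∈ U', σ h u ∈ U' := fun h u hu => by
    show P (σ h u) = 0
    rw [hPapp, ← (φZ h).toEquiv.sum_comp (fun z : Z => ρ (z : F) (σ h u))]
    refine (Finset.sum_congr rfl (g := fun z : Z => σ h (ρ (z : F) u)) fun z _ => (hcomp h z u).symm).trans ?_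
    rw [← map_sum, ← hPapp, show P u = 0 from hu, map_zero]
  have hρU : ∀ f, ∀ u ∈ U, ρ f u ∈ U := fun f u hu z => by
    rw [← Module.End.mul_apply, ← map_mul, ← Subgroup.mem_center_iff.mp z.2.1 f, map_mul, Module.End.mul_apply, hu]
  let σU : Representation k H U :=
    { toFun := fun h => (σ h).restrict (hσU h)
      map_one' := LinearMap.ext fun u => Subtype.ext (by simp [LinearMap.restrict_apply])
      map_mul' := fun a b => LinearMap.ext fun u => Subtype.ext (by simp [LinearMap.restrict_apply]) }
  let σU' : Representation k H U' :=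
    { toFun := fun h => (σ h).restrict (hσU' h)
      map_one' := LinearMap.ext fun u => Subtype.ext (by simp [LinearMap.restrict_apply])
      map_mul' := fun a b => LinearMap.ext fun u => Subtype.ext (by simp [LinearMap.restrict_apply]) }
  refine isFreeOver_of_isCompl hc σU σU' (fun g u => rfl) (fun g u => rfl) ?_ ?_
  · -- the quotient by `Z`
    let ρ0 : F →* Module.End k U :=
      { toFun := fun f => (ρ f).restrict (hρU f)
        map_one' := LinearMap.ext fun u => Subtype.ext (by simp [LinearMap.restrict_apply])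
        map_mul' := fun a b => LinearMap.ext fun u => Subtype.ext (by simp [LinearMap.restrict_apply]) }
    let ρU : Representation k (F ⧸ Z) U := QuotientGroup.lift Z ρ0 fun z hz =>
      MonoidHom.mem_ker.mpr (LinearMap.ext fun u => Subtype.ext (u.2 ⟨z, hz⟩))
    let φU : H →* MulAut (F ⧸ Z) :=
      { toFun := fun h => QuotientGroup.congr Z Z (φ h) (le_antisymm (Subgroup.map_le_iff_le_comap.mpr fun z hz => hZφ h z hz)
          fun z hz => ⟨φ h⁻¹ z, hZφ _ z hz, hφi h z⟩)
        map_one' := MulEquiv.ext fun x => by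
          induction x using QuotientGroup.induction_on with
          | _ f => simp
        map_mul' := fun a b => MulEquiv.ext fun x => by
          induction x using QuotientGroup.induction_on with
          | _ f => simp }
    have hlt : Nat.card (F ⧸ Z) < N := by
      rw [← hN, Subgroup.card_eq_card_quotient_mul_card_subgroup Z]
      exact lt_mul_of_one_lt_right Nat.card_pos ((Subgroup.one_lt_card_iff_ne_bot Z).mpr hZne)
    refine IH _ hlt U (F ⧸ Z) φU ρU σU rfl (fun h hh x hx => ?_) (fun h x u => ?_) (fun u hu => Subtype.ext (hC u fun f => ?_))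
    · induction x using QuotientGroup.induction_on with
      | _ f =>
        have hsurj : Function.Surjective fun g : F => g⁻¹ * φ h g := by
          refine Finite.injective_iff_surjective.mp fun a b hab => ?_
          have hab' : a⁻¹ * φ h a = b⁻¹ * φ h b := hab
          have : φ h (b * a⁻¹) = b * a⁻¹ := by
            rw [map_mul, map_inv, show φ h a = a * (b⁻¹ * φ h b) by rw [← hab']; group]; group
          exact (mul_inv_eq_one.mp (hfpf h hh _ this)).symm
        have hfZ : f⁻¹ * φ h f ∈ Z := QuotientGroup.eq.mp (show ((f : F) : F ⧸ Z) = (φ h f : F) from hx.symm)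
        let zq : Z := ⟨f⁻¹ * φ h f, hfZ⟩
        have hsurjZ : Function.Surjective fun g : Z => g⁻¹ * φZ h g := by
          refine Finite.injective_iff_surjective.mp fun a b hab => Subtype.ext ?_
          have hab' : (a : F)⁻¹ * φ h a = (b : F)⁻¹ * φ h b := congrArg Subtype.val hab
          exact (Finite.injective_iff_surjective.mpr hsurj) hab'
        obtain ⟨y, hy⟩ := hsurjZ zq
        have hfy : f = (y : F) := (Finite.injective_iff_surjective.mpr hsurj) (congrArg Subtype.val hy).symm
        rw [hfy]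
        exact (QuotientGroup.eq_one_iff _).mpr y.2
    · induction x using QuotientGroup.induction_on with
      | _ f => exact Subtype.ext (hcomp h f u)
    · exact congrArg Subtype.val (hu (QuotientGroup.mk f))
  · let ρ0 : Representation k Z U' :=
      { toFun := fun z => (ρ (z : F)).restrict (p := U') (q := U') fun u hu => by
          show P (ρ (z : F) u) = 0
          rw [hPapp]
          refine Eq.trans ?_ (((hPapp u).symm).trans hu)
          refine Fintype.sum_equiv (Equiv.mulRight z) _ _ fun y => ?_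
          rw [Equiv.coe_mulRight, Subgroup.coe_mul, map_mul]
          rfl
        map_one' := LinearMap.ext fun u => Subtype.ext (by simp [LinearMap.restrict_apply])
        map_mul' := fun a b => LinearMap.ext fun u => Subtype.ext (by simp [LinearMap.restrict_apply]) }
    refine free_of_abelian φZ (fun h hh z hz => Subtype.ext (hfpf h hh z (congrArg Subtype.val hz))) hZk ρ0 σU'
      (fun h z u => Subtype.ext (hcomp h z u)) (fun u hu => Subtype.ext ?_)
    have hu' : (u : V) ∈ U := fun z => congrArg Subtype.val (hu z)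
    exact (Submodule.disjoint_def.mp hc.disjoint) _ hu' u.2

end Nilpotent

end Cfsg.Lib.ModFree
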